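import Mathlib.RingTheory.Bialgebra.Basic
import Mathlib.RingTheory.TensorProduct.Basic
import Mathlib.RingTheory.Localization.Away.Basic
import Mathlib.LinearAlgebra.Matrix.NonsingularInverse
import Mathlib.LinearAlgebra.Matrix.Adjugate
import Mathlib.LinearAlgebra.Matrix.Permutation

/-!
# The equivariant maps `D(x_i) → H` for `H = Stab(e_1) × G'` (node D3 of G2c, S16912)
-/

set_option autoImplicit false
set_option linter.unusedSectionVars false
universe u

open TensorProduct Matrix

namespace Groth.Agent.ResProp.EF.K171.EquivSec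

section Tau

variable {n : Type*} [Fintype n] [DecidableEq n] {B : Type*} [CommRing B]

/-- the matrix with column `i0` equal to `x`, the other columns being the basis vectors `≠ e_i` -/
def tau (i0 i : n) (x : n → B) : Matrix n n B :=
  (Equiv.swap i0 i).permMatrix B * (1 : Matrix n n B).updateCol i0 fun j => x (Equiv.swap i0 i j)

theorem tau_col (i0 i : n) (x : n → B) (j : n) : tau i0 i x j i0 = x j := by
  have h1 : tau i0 i x j i0 = ((Equiv.swap i0 i).permMatrix B *ᵥ
      fun l => (1 : Matrix n n B).updateCol i0 (fun j => x (Equiv.swap i0 i j)) l i0) j := by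
    rw [tau, Matrix.mul_apply, Matrix.mulVec, dotProduct]
  rw [h1, Matrix.permMatrix_mulVec]
  simp

theorem det_tau (i0 i : n) (x : n → B) :
    (tau i0 i x).det = ((Equiv.swap i0 i).sign : ℤ) * x i := by
  rw [tau, Matrix.det_mul, Matrix.det_permutation, ← Matrix.cramer_apply, Matrix.cramer_one]
  simp

theorem isUnit_det_tau (i0 i : n) (x : n → B) (hx : IsUnit (x i)) : IsUnit (tau i0 i x).det := by
  rw [det_tau]
  refine IsUnit.mul ?_ hx
  exact (Units.isUnit (Equiv.Perm.sign (Equiv.swap i0 i))).map (Int.castRingHom B)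

theorem tau_map {B' : Type*} [CommRing B'] (f : B →+* B') (i0 i : n) (x : n → B) :
    (tau i0 i x).map f = tau i0 i fun j => f (x j) := by
  rw [tau, tau, Matrix.map_mul]
  congr 1
  · ext a b
    simp [Equiv.Perm.permMatrix, PEquiv.toMatrix_apply]
  · ext a b
    by_cases hb : b = i0
    · subst hb
      simp
    · simp [hb, Matrix.one_apply]

end Tau

section Main

variable {k : Type*} [CommRing k] {n : Type*} [Fintype n] [DecidableEq n] (i0 : n)
  {A : Type*} [CommRing A] [Bialgebra k A] {G0 : Type*} [CommRing G0] [Bialgebra k G0]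
  (ga0 : G0 →ₐ[k] A) (h : Matrix n n A)
  {B : Type*} [CommRing B] [Algebra k B] (rho : B →ₐ[k] B ⊗[k] A)
  (g : Matrix n n B) (ga : G0 →ₐ[k] B)

include i0 in
/-- the elements of the first column are coinvariant -/
theorem rho_col (hcol : ∀ i, h i i0 = if i = i0 then 1 else 0)
    (hg : ∀ i j, rho (g i j) = ∑ l, g i l ⊗ₜ[k] h l j) (i : n) :
    rho (g i i0) = g i i0 ⊗ₜ[k] 1 := by
  rw [hg, Finset.sum_eq_single i0]
  · rw [hcol, if_pos rfl]
  · intro b _ hb
    rw [hcol, if_neg hb, TensorProduct.tmul_zero]
  · intro hb
    exact absurd (Finset.mem_univ _) hb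

/-- the elements of the first column generate the unit ideal -/
theorem span_col (hg : IsUnit g.det) : Ideal.span (Set.range fun i => g i i0) = ⊤ := by
  rw [Ideal.eq_top_iff_one]
  have h1 : g.adjugate * g = g.det • 1 := Matrix.adjugate_mul g
  have h2 := congrFun (congrFun h1 i0) i0
  rw [Matrix.mul_apply, Matrix.smul_apply, Matrix.one_apply_eq, smul_eq_mul, mul_one] at h2
  obtain ⟨u, hu⟩ := hg
  have h3 : g.det ∈ Ideal.span (Set.range fun i => g i i0) := by
    rw [← h2]
    exact sum_mem fun i _ => Ideal.mul_mem_left _ _ (Ideal.subset_span ⟨i, rfl⟩)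
  have h4 := Ideal.mul_mem_left _ (↑u⁻¹ : B) h3
  rwa [← hu, Units.inv_mul] at h4

variable {B' : Type*} [CommRing B'] [Algebra k B'] [Algebra B B'] [IsScalarTower k B B']

/-- the coaction on the localization -/
theorem exists_rho' (i : n) (hx : rho (g i i0) = g i i0 ⊗ₜ[k] 1)
    [IsLocalization.Away (g i i0) B'] :
    ∃ rho' : B' →ₐ[k] B' ⊗[k] A, ∀ b, rho' (algebraMap B B' b) =
      Algebra.TensorProduct.map (IsScalarTower.toAlgHom k B B') (AlgHom.id k A) (rho b) := by
  let f : B →ₐ[k] B' ⊗[k] A :=
    (Algebra.TensorProduct.map (IsScalarTower.toAlgHom k B B') (AlgHom.id k A)).comp rho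
  have hf : IsUnit (f (g i i0)) := by
    change IsUnit (Algebra.TensorProduct.map (IsScalarTower.toAlgHom k B B') (AlgHom.id k A)
      (rho (g i i0)))
    rw [hx, Algebra.TensorProduct.map_tmul]
    exact (IsLocalization.Away.algebraMap_isUnit (S := B') (g i i0)).map
      (Algebra.TensorProduct.includeLeft (R := k) (S := k) (A := B') (B := A))
  have hf' : ∀ y : Submonoid.powers (g i i0), IsUnit (f y) := by
    rintro ⟨_, m, rfl⟩
    change IsUnit (f (g i i0 ^ m))
    rw [map_pow]
    exact hf.pow m
  refine ⟨IsLocalization.liftAlgHom (M := Submonoid.powers (g i i0)) (f := f) hf', fun b => ?_⟩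
  rw [IsLocalization.liftAlgHom_apply]
  exact IsLocalization.lift_eq _ b

/-- **D3**: the equivariant algebra map `O(H) → B[1/x_i]` -/
theorem exists_j (hcol : ∀ i, h i i0 = if i = i0 then 1 else 0)
    (hcomul : ∀ i j, Coalgebra.comul (R := k) (h i j) = ∑ l, h i l ⊗ₜ[k] h l j)
    (hga0 : ∀ a, Coalgebra.comul (R := k) (ga0 a) =
      Algebra.TensorProduct.map ga0 ga0 (Coalgebra.comul (R := k) a))
    (hg : ∀ i j, rho (g i j) = ∑ l, g i l ⊗ₜ[k] h l j)
    (hdet : IsUnit g.det)
    (hga : ∀ a, rho (ga a) = Algebra.TensorProduct.map ga ga0 (Coalgebra.comul (R := k) a))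
    (i : n) (hxi : IsUnit (algebraMap B B' (g i i0)))
    (lift : ∀ (M : Matrix n n B') (γ : G0 →ₐ[k] B'), (∀ i, M i i0 = if i = i0 then 1 else 0) →
      IsUnit M.det → ∃ F : A →ₐ[k] B', (∀ i j, F (h i j) = M i j) ∧ F.comp ga0 = γ)
    (ext : ∀ F F' : A →ₐ[k] B' ⊗[k] A, (∀ i j, F (h i j) = F' (h i j)) →
      F.comp ga0 = F'.comp ga0 → F = F')
    (rho' : B' →ₐ[k] B' ⊗[k] A) (hrho' : ∀ b, rho' (algebraMap B B' b) =
      Algebra.TensorProduct.map (IsScalarTower.toAlgHom k B B') (AlgHom.id k A) (rho b)) :
    ∃ j : A →ₐ[k] B', (∀ l m, ∑ r, tau i0 i (fun s => algebraMap B B' (g s i0)) l r * j (h r m) =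
        algebraMap B B' (g l m)) ∧
      j.comp ga0 = (IsScalarTower.toAlgHom k B B').comp ga ∧
      ∀ a, rho' (j a) = Algebra.TensorProduct.map j (AlgHom.id k A) (Coalgebra.comul (R := k) a) := by
  set T : Matrix n n B' := tau i0 i fun s => algebraMap B B' (g s i0) with hT
  have hTu : IsUnit T.det := isUnit_det_tau i0 i _ hxi
  set g' : Matrix n n B' := g.map (algebraMap B B') with hg'
  have hTM : T * (T⁻¹ * g') = g' := by
    rw [← Matrix.mul_assoc, Matrix.mul_nonsing_inv _ hTu, Matrix.one_mul]
  obtain ⟨j, hj1, hj2⟩ := lift (T⁻¹ * g') ((IsScalarTower.toAlgHom k B B').comp ga) (by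
    -- the first column
    intro l
    have h1 : T⁻¹ * T = 1 := Matrix.nonsing_inv_mul _ hTu
    have h2 : (T⁻¹ * g') l i0 = (T⁻¹ * T) l i0 := by
      rw [Matrix.mul_apply, Matrix.mul_apply]
      refine Finset.sum_congr rfl fun s _ => ?_
      rw [hT, tau_col]
      rfl
    rw [h2, h1, Matrix.one_apply]) (by
    rw [Matrix.det_mul]
    refine IsUnit.mul ((Matrix.isUnit_nonsing_inv_det_iff).2 hTu) ?_
    rw [hg', ← RingHom.mapMatrix_apply, ← RingHom.map_det]
    exact hdet.map _)
  have hjm : T * (h.map j) = g' := by
    rw [← hTM]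
    congr 1
    ext a b
    exact hj1 a b
  refine ⟨j, fun l m => congrFun (congrFun hjm l) m, hj2, fun a => ?_⟩
  have key : rho'.comp j = (Algebra.TensorProduct.map j (AlgHom.id k A)).comp
      (Bialgebra.comulAlgHom k A) := by
    apply ext
    · -- on the matrix entries
      have hTrho : T.map rho' = T.map (Algebra.TensorProduct.includeLeft (R := k) (S := k)
          (A := B') (B := A)) := by
        have e1 := tau_map (rho' : B' →+* B' ⊗[k] A) i0 i (fun s => algebraMap B B' (g s i0))
        have e2 := tau_map ((Algebra.TensorProduct.includeLeft (R := k) (S := k)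
          (A := B') (B := A) : B' →ₐ[k] B' ⊗[k] A) : B' →+* B' ⊗[k] A) i0 i
          (fun s => algebraMap B B' (g s i0))
        refine (show T.map rho' = _ from e1).trans (Eq.trans ?_ e2.symm)
        congr 1
        funext s
        change rho' (algebraMap B B' (g s i0)) = algebraMap B B' (g s i0) ⊗ₜ[k] (1 : A)
        rw [hrho', rho_col i0 h rho g hcol hg s, Algebra.TensorProduct.map_tmul, map_one]
        rfl
      have hu : IsUnit (T.map (Algebra.TensorProduct.includeLeft (R := k) (S := k)
          (A := B') (B := A))).det := by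
        have := hTu.map (Algebra.TensorProduct.includeLeft (R := k) (S := k) (A := B') (B := A))
        rwa [AlgHom.map_det] at this
      have e3 : T.map rho' * (h.map j).map rho' = g'.map rho' := by
        rw [← Matrix.map_mul, hjm]
      have e4 : g'.map rho' = (g'.map (Algebra.TensorProduct.includeLeft (R := k) (S := k)
          (A := B') (B := A))) * h.map (Algebra.TensorProduct.includeRight (R := k)
            (A := B') (B := A)) := by
        ext a b
        rw [Matrix.mul_apply]
        simp only [Matrix.map_apply, hg']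
        rw [hrho', hg, map_sum]
        refine Finset.sum_congr rfl fun l _ => ?_
        rw [Algebra.TensorProduct.map_tmul, Algebra.TensorProduct.includeLeft_apply,
          Algebra.TensorProduct.includeRight_apply, Algebra.TensorProduct.tmul_mul_tmul, mul_one,
          one_mul]
        rfl
      have e5 : g'.map (Algebra.TensorProduct.includeLeft (R := k) (S := k)
          (A := B') (B := A)) = T.map (Algebra.TensorProduct.includeLeft (R := k) (S := k)
          (A := B') (B := A)) * (h.map j).map (Algebra.TensorProduct.includeLeft (R := k) (S := k)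
          (A := B') (B := A)) := by
        rw [← Matrix.map_mul, hjm]
      have e6 : (h.map j).map rho' = (h.map j).map (Algebra.TensorProduct.includeLeft (R := k)
          (S := k) (A := B') (B := A)) * h.map (Algebra.TensorProduct.includeRight (R := k)
            (A := B') (B := A)) := by
        rw [hTrho, e4, e5, Matrix.mul_assoc] at e3
        have := congrArg (fun X => (T.map (Algebra.TensorProduct.includeLeft (R := k) (S := k)
          (A := B') (B := A)))⁻¹ * X) e3
        simpa only [← Matrix.mul_assoc, Matrix.nonsing_inv_mul _ hu, Matrix.one_mul] using this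
      intro l m
      have e7 := congrFun (congrFun e6 l) m
      rw [Matrix.mul_apply] at e7
      simp only [Matrix.map_apply] at e7
      change rho' (j (h l m)) = Algebra.TensorProduct.map j (AlgHom.id k A)
        (Coalgebra.comul (R := k) (h l m))
      rw [e7, hcomul, map_sum]
      refine Finset.sum_congr rfl fun r _ => ?_
      rw [Algebra.TensorProduct.map_tmul, Algebra.TensorProduct.includeLeft_apply,
        Algebra.TensorProduct.includeRight_apply, Algebra.TensorProduct.tmul_mul_tmul, mul_one,
        one_mul]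
      rfl
    · -- on `G'`
      apply AlgHom.ext
      intro a
      change rho' (j (ga0 a)) = Algebra.TensorProduct.map j (AlgHom.id k A)
        (Coalgebra.comul (R := k) (ga0 a))
      have e1 : j (ga0 a) = algebraMap B B' (ga a) := AlgHom.congr_fun hj2 a
      rw [e1, hrho', hga, hga0]
      generalize Coalgebra.comul (R := k) a = z
      induction z using TensorProduct.induction_on with
      | zero => simp
      | add x y hx hy => rw [map_add, map_add, map_add, map_add, hx, hy]
      | tmul x y =>
        rw [Algebra.TensorProduct.map_tmul, Algebra.TensorProduct.map_tmul,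
          Algebra.TensorProduct.map_tmul, Algebra.TensorProduct.map_tmul]
        congr 1
        exact (AlgHom.congr_fun hj2 x).symm
  exact AlgHom.congr_fun key a

end Main

end Groth.Agent.ResProp.EF.K171.EquivSec

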