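import Mathlib.RingTheory.TensorProduct.Basic
import Mathlib.LinearAlgebra.Matrix.NonsingularInverse
import Groth.Agent.CAlgX.K581.HilbertBurch

/-!
# The invariant matrix `X = g₂ · (g₁⁻¹ without row 0)` and its minors (node D4 of G2c, S16912)
-/

set_option autoImplicit false
set_option linter.unusedSectionVars false
universe u

open TensorProduct Matrix K581.HilbertBurch

namespace Groth.Agent.ResProp.EF.K171.InvMat

section Minors

variable {B : Type*} [CommRing B] {t : ℕ}

/-- the matrix `g₂ · (g₁⁻¹ without row 0)`, transposed -/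
noncomputable def XT (g1 : Matrix (Fin (t + 1)) (Fin (t + 1)) B) (g2 : Matrix (Fin t) (Fin t) B) :
    Matrix (Fin (t + 1)) (Fin t) B :=
  (g2 * g1⁻¹.submatrix Fin.succ id)ᵀ

theorem dl_XT {B : Type u} [CommRing B] (g1 : Matrix (Fin (t + 1)) (Fin (t + 1)) B)
    (g2 : Matrix (Fin t) (Fin t) B) (h1 : IsUnit g1.det) (i : Fin (t + 1)) :
    dl (XT g1 g2) i = g2.det * g1⁻¹.det * g1 i 0 := by
  have e1 : (XT g1 g2).submatrix i.succAbove id =
      (g2 * g1⁻¹.submatrix Fin.succ i.succAbove)ᵀ := by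
    ext a b
    simp only [XT, Matrix.submatrix_apply, Matrix.transpose_apply, Matrix.mul_apply, id]
  have e2 : g1⁻¹.adjugate = g1⁻¹.det • g1 := by
    have h2 : g1⁻¹ * g1 = 1 := Matrix.nonsing_inv_mul _ h1
    have h3 : g1⁻¹.adjugate * (g1⁻¹ * g1) = g1⁻¹.det • g1 := by
      rw [← Matrix.mul_assoc, Matrix.adjugate_mul, Matrix.smul_mul, Matrix.one_mul]
    rwa [h2, Matrix.mul_one] at h3
  have e3 := congrFun (congrFun e2 i) 0
  rw [Matrix.adjugate_fin_succ_eq_det_submatrix] at e3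
  rw [dl, e1, Matrix.det_transpose, Matrix.det_mul]
  have e4 : (0 : Fin (t + 1)).succAbove = (Fin.succ : Fin t → Fin (t + 1)) := rfl
  rw [e4] at e3
  simp only [Fin.val_zero, zero_add, Matrix.smul_apply, smul_eq_mul] at e3
  rw [mul_left_comm, e3]
  ring

end Minors

section Coinv

variable {k : Type*} [CommRing k] {A : Type*} [CommRing A] [Algebra k A]
  {B : Type*} [CommRing B] [Algebra k B] (rho : B →ₐ[k] B ⊗[k] A) {t : ℕ}
  (h : Matrix (Fin (t + 1)) (Fin (t + 1)) A)
  (g1 : Matrix (Fin (t + 1)) (Fin (t + 1)) B) (g2 : Matrix (Fin t) (Fin t) B)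

/-- the entries of `X` are coinvariant -/
theorem rho_XT (hcol : ∀ i, h i 0 = if i = 0 then 1 else 0)
    (hg1 : ∀ i j, rho (g1 i j) = ∑ l, g1 i l ⊗ₜ[k] h l j)
    (hg2 : ∀ i j, rho (g2 i j) = ∑ l, g2 i l ⊗ₜ[k] h l.succ j.succ)
    (hd1 : IsUnit g1.det) (a : Fin (t + 1)) (b : Fin t) :
    rho (XT g1 g2 a b) = XT g1 g2 a b ⊗ₜ[k] 1 := by
  let iL := (Algebra.TensorProduct.includeLeft : B →ₐ[k] B ⊗[k] A)
  let iR := (Algebra.TensorProduct.includeRight : A →ₐ[k] B ⊗[k] A)
  have m1 : g1.map rho = g1.map iL * h.map iR := by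
    ext i j
    rw [Matrix.mul_apply, Matrix.map_apply, hg1]
    refine Finset.sum_congr rfl fun l _ => ?_
    simp [iL, iR]
  have m2 : g2.map rho = g2.map iL * (h.submatrix Fin.succ Fin.succ).map iR := by
    ext i j
    rw [Matrix.mul_apply, Matrix.map_apply, hg2]
    refine Finset.sum_congr rfl fun l _ => ?_
    simp [iL, iR]
  -- `X * g₁ = g₂ * P`
  have hX : (XT g1 g2)ᵀ * g1 = g2 * (1 : Matrix (Fin (t + 1)) (Fin (t + 1)) B).submatrix Fin.succ id := by
    rw [XT, Matrix.transpose_transpose, Matrix.mul_assoc]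
    congr 1
    ext i j
    have := congrFun (congrFun (Matrix.nonsing_inv_mul _ hd1) i.succ) j
    rw [Matrix.mul_apply] at this ⊢
    exact this
  -- `P h = h' P`
  have hP : (1 : Matrix (Fin (t + 1)) (Fin (t + 1)) A).submatrix Fin.succ id * h =
      h.submatrix Fin.succ Fin.succ * (1 : Matrix (Fin (t + 1)) (Fin (t + 1)) A).submatrix Fin.succ id := by
    ext i j
    rw [Matrix.mul_apply, Matrix.mul_apply]
    have e1 : ∑ r, (1 : Matrix (Fin (t + 1)) (Fin (t + 1)) A).submatrix Fin.succ id i r * h r j =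
        h i.succ j := by
      simp [Matrix.one_apply]
    rw [e1]
    refine Fin.cases ?_ (fun j => ?_) j
    · rw [hcol, if_neg (Fin.succ_ne_zero i)]
      symm
      refine Finset.sum_eq_zero fun r _ => ?_
      simp [Matrix.one_apply]
    · simp [Matrix.one_apply]
  have hu1 : IsUnit (g1.map iL).det := by
    have := hd1.map iL
    rwa [AlgHom.map_det] at this
  have hu2 : IsUnit (g1.map rho).det := by
    have := hd1.map rho
    rwa [AlgHom.map_det] at this
  have k1 : (XT g1 g2)ᵀ.map rho * g1.map rho = (XT g1 g2)ᵀ.map iL * g1.map rho := by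
    have a1 : (XT g1 g2)ᵀ.map rho * g1.map rho =
        (g2 * (1 : Matrix (Fin (t + 1)) (Fin (t + 1)) B).submatrix Fin.succ id).map rho := by
      rw [← Matrix.map_mul, hX]
    have a2 : (XT g1 g2)ᵀ.map iL * g1.map iL =
        (g2 * (1 : Matrix (Fin (t + 1)) (Fin (t + 1)) B).submatrix Fin.succ id).map iL := by
      rw [← Matrix.map_mul, hX]
    have a3 : ∀ (f : B →ₐ[k] B ⊗[k] A), ((1 : Matrix (Fin (t + 1)) (Fin (t + 1)) B).submatrix
        Fin.succ id).map f = (1 : Matrix (Fin (t + 1)) (Fin (t + 1)) (B ⊗[k] A)).submatrix Fin.succ id := by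
      intro f
      ext i j
      simp [Matrix.one_apply, apply_ite f]
    have a4 : ((1 : Matrix (Fin (t + 1)) (Fin (t + 1)) A).submatrix Fin.succ id).map iR =
        (1 : Matrix (Fin (t + 1)) (Fin (t + 1)) (B ⊗[k] A)).submatrix Fin.succ id := by
      ext i j
      simp [Matrix.one_apply, apply_ite iR]
    have a5 := congrArg (fun X => X.map iR) hP
    rw [Matrix.map_mul, Matrix.map_mul, a4] at a5
    rw [a1, Matrix.map_mul, a3, m2, m1, ← Matrix.mul_assoc, a2, Matrix.map_mul, a3, Matrix.mul_assoc,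
      Matrix.mul_assoc, a5]
  have k2 : (XT g1 g2)ᵀ.map rho = (XT g1 g2)ᵀ.map iL := by
    have := congrArg (fun X => X * (g1.map rho)⁻¹) k1
    simpa only [Matrix.mul_assoc, Matrix.mul_nonsing_inv _ hu2, Matrix.mul_one] using this
  exact congrFun (congrFun k2 b) a

end Coinv

end Groth.Agent.ResProp.EF.K171.InvMat

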