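import Groth.Agent.ResProp.EF.K711.Asm
import Groth.Agent.ResProp.EF.K171.EquivSec
import Groth.Agent.ResProp.EF.K171.InvMat

/-!
# (CD2) for `H = Stab(e_0) × G'` in `G = GL_(t+1) × GL_t × G'`, from matrices and Lemma T
-/

set_option autoImplicit false
set_option linter.unusedSectionVars false

universe u

open TensorProduct Matrix
open Groth.Agent.ResProp.EF.Grp Groth.Agent.ResProp.EF.K65 Groth.Agent.ResProp.EF.K348.HB
open Groth.Agent.ResProp.EF.K711

noncomputable section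

namespace Groth.Agent.ResProp.EF.K171

/-- **Lemma T** (total integral), as a statement: an equivariant algebra map `O(H) → B[1/f]` makes the cohomology of
all `M ⊗ B` in degrees `1, 2` `f`-power torsion. -/
def LemT (k : Type u) [CommRing k] : Prop :=
  ∀ (H : Gp k) (B : Type u) [CommRing B] [Algebra k B] (cB : HopfRep.Comod k H.O B)
    (rhoB : B →ₐ[k] B ⊗[k] H.O), (∀ b, cB.coact b = rhoB b) →
    ∀ f : B, rhoB f = f ⊗ₜ 1 → ∀ (B' : Type u) [CommRing B'] [Algebra k B'] [Algebra B B']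
    [IsScalarTower k B B'] [IsLocalization.Away f B'] (rho' : B' →ₐ[k] B' ⊗[k] H.O),
    (∀ b, rho' (algebraMap B B' b) =
      Algebra.TensorProduct.map (IsScalarTower.toAlgHom k B B') (AlgHom.id k H.O) (rhoB b)) →
    ∀ j : H.O →ₐ[k] B',
      (∀ a, rho' (j a) = Algebra.TensorProduct.map j (AlgHom.id k H.O) (Coalgebra.comul (R := k) a)) →
      TorsFor H B cB f

/-- the coaction on a localization at a coinvariant element -/
theorem exists_rho'' {k : Type*} [CommRing k] {A : Type*} [CommRing A] [Algebra k A]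
    {B : Type*} [CommRing B] [Algebra k B] (rhoB : B →ₐ[k] B ⊗[k] A)
    {B' : Type*} [CommRing B'] [Algebra k B'] [Algebra B B'] [IsScalarTower k B B'] (f : B)
    (hf : rhoB f = f ⊗ₜ[k] 1) [IsLocalization.Away f B'] :
    ∃ rho' : B' →ₐ[k] B' ⊗[k] A, ∀ b, rho' (algebraMap B B' b) =
      Algebra.TensorProduct.map (IsScalarTower.toAlgHom k B B') (AlgHom.id k A) (rhoB b) := by
  let F : B →ₐ[k] B' ⊗[k] A :=
    (Algebra.TensorProduct.map (IsScalarTower.toAlgHom k B B') (AlgHom.id k A)).comp rhoB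
  have hF : IsUnit (F f) := by
    change IsUnit (Algebra.TensorProduct.map (IsScalarTower.toAlgHom k B B') (AlgHom.id k A) (rhoB f))
    rw [hf, Algebra.TensorProduct.map_tmul]
    exact (IsLocalization.Away.algebraMap_isUnit (S := B') f).map
      (Algebra.TensorProduct.includeLeft (R := k) (S := k) (A := B') (B := A))
  have hF' : ∀ y : Submonoid.powers f, IsUnit (F y) := by
    rintro ⟨_, m, rfl⟩
    change IsUnit (F (f ^ m))
    rw [map_pow]
    exact hF.pow m
  refine ⟨IsLocalization.liftAlgHom (M := Submonoid.powers f) (f := F) hF', fun b => ?_⟩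
  rw [IsLocalization.liftAlgHom_apply]
  exact IsLocalization.lift_eq _ b

variable {k : Type u} [CommRing k] {G H : Gp k} (φ : G.O →ₐc[k] H.O)

/-- the matrices describing `H = Stab(e_0) × G'`, `G = GL_(t+1) × GL_t × G'` -/
structure StabData (t : ℕ) where
  G0 : Type u
  [crG : CommRing G0]
  [bg : Bialgebra k G0]
  ga0 : G0 →ₐ[k] H.O
  hga0 : ∀ a, Coalgebra.comul (R := k) (ga0 a) =
    Algebra.TensorProduct.map ga0 ga0 (Coalgebra.comul (R := k) a)
  h : Matrix (Fin (t + 1)) (Fin (t + 1)) H.O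
  hcol : ∀ i, h i 0 = if i = 0 then 1 else 0
  hcomul : ∀ i j, Coalgebra.comul (R := k) (h i j) = ∑ l, h i l ⊗ₜ[k] h l j
  g1 : Matrix (Fin (t + 1)) (Fin (t + 1)) G.O
  hdet1 : IsUnit g1.det
  hg1 : ∀ i j, rho φ (g1 i j) = ∑ l, g1 i l ⊗ₜ[k] h l j
  g2 : Matrix (Fin t) (Fin t) G.O
  hdet2 : IsUnit g2.det
  hg2 : ∀ i j, rho φ (g2 i j) = ∑ l, g2 i l ⊗ₜ[k] h l.succ j.succ
  ga : G0 →ₐ[k] G.O
  hga : ∀ a, rho φ (ga a) = Algebra.TensorProduct.map ga ga0 (Coalgebra.comul (R := k) a)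
  lift : ∀ (R : Type u) [CommRing R] [Algebra k R] (M : Matrix (Fin (t + 1)) (Fin (t + 1)) R)
    (γ : G0 →ₐ[k] R), (∀ i, M i 0 = if i = 0 then 1 else 0) → IsUnit M.det →
    ∃ F : H.O →ₐ[k] R, (∀ i j, F (h i j) = M i j) ∧ F.comp ga0 = γ
  ext : ∀ (R : Type u) [CommRing R] [Algebra k R] (F F' : H.O →ₐ[k] R),
    (∀ i j, F (h i j) = F' (h i j)) → F.comp ga0 = F'.comp ga0 → F = F'

attribute [instance] StabData.crG StabData.bg

/-- **(CD2)** from the matrices and Lemma T. -/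
theorem cd2_of_stabData (hT : LemT k) (p : ℕ) (hp : p.Prime) (hk : (Ideal.span {(p : k)}).IsMaximal)
    (t : ℕ) (D : StabData φ t) : CD2 p G H φ := by
  let X := InvMat.XT D.g1 D.g2
  have hX : ∀ i j, rho φ (X i j) = X i j ⊗ₜ 1 :=
    fun i j => InvMat.rho_XT (rho φ) D.h D.g1 D.g2 D.hcol D.hg1 D.hg2 D.hdet1 i j
  have hmn : ∀ i, mnr X i = D.g2.det * D.g1⁻¹.det * D.g1 i 0 :=
    fun i => InvMat.dl_XT D.g1 D.g2 D.hdet1 i
  have hu : IsUnit (D.g2.det * D.g1⁻¹.det) :=
    D.hdet2.mul ((Matrix.isUnit_nonsing_inv_det_iff).2 D.hdet1)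
  have hfix : ∀ i, rho φ (mnr X i) = mnr X i ⊗ₜ 1 := by
    intro i
    have e1 := K348.HB.mnr_map (rho φ : G.O →+* G.O ⊗[k] H.O) X i
    have e2 := K348.HB.mnr_map ((Algebra.TensorProduct.includeLeft : G.O →ₐ[k] G.O ⊗[k] H.O) :
      G.O →+* G.O ⊗[k] H.O) X i
    refine (show rho φ (mnr X i) = _ from e1.symm).trans (Eq.trans ?_ e2)
    congr 1
    ext a b
    exact hX a b
  refine cd2_of_matrix φ p hp hk t X hX ?_ fun i => ?_
  · have h1 := EquivSec.span_col (0 : Fin (t + 1)) D.g1 D.hdet1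
    rw [eq_top_iff, ← h1, Ideal.span_le]
    rintro _ ⟨i, rfl⟩
    obtain ⟨v, hv⟩ := hu
    have h2 : D.g1 i 0 = ↑v⁻¹ * mnr X i := by
      rw [hmn, ← hv, ← mul_assoc, Units.inv_mul, one_mul]
    change D.g1 i 0 ∈ _
    rw [h2]
    exact Ideal.mul_mem_left _ _ (Ideal.subset_span ⟨i, rfl⟩)
  · obtain ⟨rho', hrho'⟩ := exists_rho'' (rho φ) (B' := Localization.Away (mnr X i)) (mnr X i) (hfix i)
    have hxi : IsUnit (algebraMap G.O (Localization.Away (mnr X i)) (D.g1 i 0)) := by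
      have h1 := IsLocalization.Away.algebraMap_isUnit (S := Localization.Away (mnr X i)) (mnr X i)
      have h2 : algebraMap G.O (Localization.Away (mnr X i)) (mnr X i) =
          algebraMap G.O (Localization.Away (mnr X i)) (D.g2.det * D.g1⁻¹.det) *
            algebraMap G.O (Localization.Away (mnr X i)) (D.g1 i 0) := by
        rw [← map_mul, ← hmn]
      rw [h2] at h1
      exact isUnit_of_mul_isUnit_right h1
    obtain ⟨j, -, -, hj⟩ := EquivSec.exists_j (0 : Fin (t + 1)) D.ga0 D.h (rho φ) D.g1 D.ga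
      (B' := Localization.Away (mnr X i)) D.hcol D.hcomul D.hga0 D.hg1 D.hdet1 D.hga i hxi
      (D.lift _) (D.ext _) rho' hrho'
    exact hT H G.O ((reg G).res φ).co (rho φ) (fun _ => rfl) (mnr X i) (hfix i)
      (Localization.Away (mnr X i)) rho' hrho' j hj

end Groth.Agent.ResProp.EF.K171
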