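import Groth.Agent.Pi1C.CechCmp
import Groth.Agent.Sga2.LCNew
import Groth.Agent.CAlgX.K581.HilbertBurch
import Mathlib.Algebra.MvPolynomial.NoZeroDivisors
import Mathlib.RingTheory.Polynomial.UniqueFactorization
import Mathlib.RingTheory.Polynomial.Basic
import Mathlib.CategoryTheory.Abelian.Projective.Dimension
import Mathlib.Algebra.CharP.Frobenius

/-!
# The maximal minors of the generic `(t+1) × t` matrix in characteristic `p`

The extended Čech complex of every module for the `t + 1` maximal minors is exact in degrees `≥ 3`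
(Peskine–Szpiro: `pd S/I^[q] ≤ 2` by Hilbert–Burch).  Node CD2-i of S16912 (`1.4 (A)`).
-/

set_option autoImplicit false
set_option linter.unusedSectionVars false
universe u

open CategoryTheory Abelian Limits Opposite Matrix
open K581.HilbertBurch Groth.Agent.Sga2

namespace Groth.Agent.ResProp.EF.K171.CechMinors

section UFD

variable {R : Type u} [CommRing R] [IsDomain R] [UniqueFactorizationMonoid R]

/-- no prime divides all the elements of a family -/
def Cop {ι : Type*} (f : ι → R) : Prop := ∀ π : R, Prime π → ∃ i, ¬ π ∣ f i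

theorem dvd_of_cop {ι : Type*} (f : ι → R) (hf : Cop f) (c : R) (hc : c ≠ 0) :
    ∀ a : R, (∀ j, c ∣ f j * a) → c ∣ a := by
  induction c using UniqueFactorizationMonoid.induction_on_prime with
  | h₁ => exact absurd rfl hc
  | h₂ x hx => exact fun a _ => hx.dvd
  | h₃ a' π ha' hπ ih =>
    intro a h
    obtain ⟨j, hj⟩ := hf π hπ
    have h1 : π ∣ a := (hπ.dvd_or_dvd ((dvd_mul_right π a').trans (h j))).resolve_left hj
    obtain ⟨b, rfl⟩ := h1
    refine mul_dvd_mul_left π (ih ha' b fun k => ?_)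
    have h2 := h k
    rw [mul_left_comm] at h2
    exact (mul_dvd_mul_iff_left hπ.ne_zero).1 h2

variable {t : ℕ} (Ψ : Matrix (Fin (t + 1)) (Fin t) R)

theorem mulVec_injective (h0 : ∃ i, dl Ψ i ≠ 0) (u : Fin t → R) (hu : Ψ.mulVec u = 0) : u = 0 := by
  obtain ⟨i, hi⟩ := h0
  have h1 : dl Ψ i ∈ CAlgX.minorIdeal Ψ t := by
    rw [mem_minorIdeal_iff]
    refine ⟨Pi.single i 1, ?_⟩
    simp [Pi.single_apply]
  have h2 := K581.McCoy.smul_eq_zero_of_mem Ψ u hu _ h1
  rcases smul_eq_zero.1 h2 with h | h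
  · exact absurd h hi
  · exact h

/-- Hilbert–Burch over a factorial ring. -/
theorem ker_le_range' (hf : Cop (dl Ψ)) (h0 : ∃ i, dl Ψ i ≠ 0) (w : Fin (t + 1) → R)
    (hw : ∑ i, w i * dl Ψ i = 0) : ∃ u, Ψ.mulVec u = w := by
  have h1 : ∀ i, ∃ u, Ψ.mulVec u = dl Ψ i • w := by
    intro i
    obtain ⟨u, hu⟩ := exists_mulVec_eq_smul Ψ w hw (Pi.single i 1)
    refine ⟨u, hu.trans ?_⟩
    congr 1
    simp [Pi.single_apply]
  choose u hu using h1
  have h2 : ∀ i j, dl Ψ j • u i = dl Ψ i • u j := by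
    intro i j
    rw [← sub_eq_zero]
    refine mulVec_injective Ψ h0 _ ?_
    rw [Matrix.mulVec_sub, Matrix.mulVec_smul, Matrix.mulVec_smul, hu, hu, smul_smul, smul_smul,
      mul_comm, sub_self]
  obtain ⟨i, hi⟩ := h0
  have h3 : ∀ l, dl Ψ i ∣ u i l := by
    intro l
    refine dvd_of_cop (dl Ψ) hf _ hi _ fun j => ⟨u j l, ?_⟩
    exact congrFun (h2 i j) l
  choose v hv using h3
  refine ⟨v, ?_⟩
  have h4 : dl Ψ i • Ψ.mulVec v = dl Ψ i • w := by
    rw [← Matrix.mulVec_smul, ← hu i]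
    congr 1
    funext l
    exact (hv l).symm
  funext k
  exact mul_left_cancel₀ hi (congrFun h4 k)

end UFD

section PD

variable {R : Type u} [CommRing R] {t : ℕ} (Ψ : Matrix (Fin (t + 1)) (Fin t) R)

/-- the linear form `w ↦ ∑ w i * dl i` with values in the ideal of minors -/
noncomputable def toI : (Fin (t + 1) → R) →ₗ[R] Ideal.span (Set.range (dl Ψ)) :=
  LinearMap.codRestrict _ (∑ i, (LinearMap.proj i : (Fin (t + 1) → R) →ₗ[R] R).smulRight (dl Ψ i))
    (fun w => by
      simp only [LinearMap.coe_sum, Finset.sum_apply, LinearMap.smulRight_apply]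
      exact Submodule.sum_mem _ fun i _ =>
        Submodule.smul_mem _ _ (Ideal.subset_span (Set.mem_range_self i)))

theorem toI_apply (w : Fin (t + 1) → R) : (toI Ψ w : R) = ∑ i, w i * dl Ψ i := by
  simp [toI]

theorem toI_surjective : Function.Surjective (toI Ψ) := by
  rintro ⟨x, hx⟩
  have hx' := hx
  rw [Ideal.span, Submodule.mem_span_range_iff_exists_fun] at hx'
  obtain ⟨c, hc⟩ := hx'
  refine ⟨c, Subtype.ext ?_⟩
  rw [toI_apply]
  exact hc

/-- `pd R/I ≤ 2` for the ideal of maximal minors, when the Hilbert–Burch complex is exact -/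
theorem pd_le (hinj : ∀ u, Ψ.mulVec u = 0 → u = 0)
    (hker : ∀ w : Fin (t + 1) → R, ∑ i, w i * dl Ψ i = 0 → ∃ u, Ψ.mulVec u = w) :
    HasProjectiveDimensionLT (ModuleCat.of R (R ⧸ Ideal.span (Set.range (dl Ψ)))) 3 := by
  have hex : Function.Exact Ψ.mulVecLin (toI Ψ) := by
    intro w
    constructor
    · intro hw
      have h1 : ∑ i, w i * dl Ψ i = 0 := by
        rw [← toI_apply, hw]
        rfl
      obtain ⟨v, hv⟩ := hker w h1
      exact ⟨v, hv⟩
    · rintro ⟨v, rfl⟩
      apply Subtype.ext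
      rw [toI_apply, Matrix.mulVecLin_apply, sum_mulVec_mul_dl]
      rfl
  have hi : Function.Injective Ψ.mulVecLin := by
    rw [← LinearMap.ker_eq_bot, LinearMap.ker_eq_bot']
    exact hinj
  have h0 : (toI Ψ).comp Ψ.mulVecLin = 0 := LinearMap.ext fun v => (hex _).2 ⟨v, rfl⟩
  have hS₁ := ModuleCat.shortComplex_shortExact
    (ModuleCat.shortComplexOfCompEqZero Ψ.mulVecLin (toI Ψ) h0) hex hi (toI_surjective Ψ)
  have hp1 : Projective (ModuleCat.of R (Fin t → R)) := inferInstance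
  have hp2 : Projective (ModuleCat.of R (Fin (t + 1) → R)) := inferInstance
  have hp3 : Projective (ModuleCat.of R R) := inferInstance
  have h1 : HasProjectiveDimensionLT (ModuleCat.of R (Ideal.span (Set.range (dl Ψ)))) 2 :=
    (hS₁.hasProjectiveDimensionLT_X₃_iff 0 hp2).2
      (projective_iff_hasProjectiveDimensionLT_one.1 hp1)
  set I := Ideal.span (Set.range (dl Ψ)) with hI
  have hex2 : Function.Exact I.subtype I.mkQ := by
    intro x
    rw [Submodule.mkQ_apply, Submodule.Quotient.mk_eq_zero]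
    exact ⟨fun h => ⟨⟨x, h⟩, rfl⟩, fun ⟨y, hy⟩ => hy ▸ y.2⟩
  have h00 : I.mkQ.comp I.subtype = 0 := LinearMap.ext fun v => (hex2 _).2 ⟨v, rfl⟩
  have hS₂ := ModuleCat.shortComplex_shortExact
    (ModuleCat.shortComplexOfCompEqZero I.subtype I.mkQ h00) hex2
    Subtype.val_injective (Submodule.mkQ_surjective I)
  exact (hS₂.hasProjectiveDimensionLT_X₃_iff 1 hp3).2 h1

end PD

section LC

variable {R : Type u} [CommRing R] (I : Ideal R)

/-- Vanishing of local cohomology from a cofinal system of ideals of bounded projective dimension. -/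
theorem localCohomology_eq_zero (c : ℕ)
    (h : ∀ n : ℕ, ∃ J : Ideal R, J ≤ I ^ n ∧ (∃ k, I ^ k ≤ J) ∧
      HasProjectiveDimensionLT (ModuleCat.of R (R ⧸ J)) c) (i : ℕ) (hi : c ≤ i)
    (M : ModuleCat.{u} R) (x : (localCohomology I i).obj M) : x = 0 := by
  obtain ⟨n, y, rfl⟩ := LCNew.toH_surj I i M x
  obtain ⟨J, hJn, ⟨k, hk⟩, hpd⟩ := h n
  have hnk : n ≤ max n k := le_max_left _ _
  rw [← LCNew.toH_compat I i M n (max n k) hnk]
  have h1 : TopDual.proj (Ideal.pow_le_pow_right hnk) =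
      TopDual.proj ((Ideal.pow_le_pow_right (I := I) (le_max_right n k)).trans hk) ≫
        TopDual.proj hJn := by
    apply ModuleCat.hom_ext
    apply LinearMap.ext
    intro z
    obtain ⟨z, rfl⟩ := Submodule.Quotient.mk_surjective _ z
    rfl
  have h2 : (Ext.mk₀ (TopDual.proj hJn)).comp y (zero_add i) = 0 :=
    (HasProjectiveDimensionLT.subsingleton (ModuleCat.of R (R ⧸ J)) c i hi M).elim _ _
  rw [h1, ← Ext.mk₀_comp_mk₀, Ext.comp_assoc _ _ _ (zero_add 0) (zero_add i) (by omega), h2,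
    Ext.comp_zero, map_zero]

end LC

section Frob

variable {R : Type u} [CommRing R] {t : ℕ} (Ψ : Matrix (Fin (t + 1)) (Fin t) R)

theorem dl_map {R' : Type*} [CommRing R'] (φ : R →+* R') (i : Fin (t + 1)) :
    dl (Ψ.map φ) i = φ (dl Ψ i) := by
  rw [dl, dl, map_mul, map_pow, map_neg, map_one, RingHom.map_det]
  rfl

variable (p : ℕ) [Fact p.Prime] [CharP R p]

theorem dl_frob (e : ℕ) (i : Fin (t + 1)) :
    dl (Ψ.map (iterateFrobenius R p e)) i = dl Ψ i ^ p ^ e := by
  rw [dl_map, iterateFrobenius_def]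

variable [IsDomain R] [UniqueFactorizationMonoid R]

theorem cop_pow {ι : Type*} (f : ι → R) (hf : Cop f) (q : ℕ) : Cop fun i => f i ^ q := by
  intro π hπ
  obtain ⟨i, hi⟩ := hf π hπ
  exact ⟨i, fun h => hi (hπ.dvd_of_dvd_pow h)⟩

theorem pd_frob (hf : Cop (dl Ψ)) (h0 : ∃ i, dl Ψ i ≠ 0) (e : ℕ) :
    HasProjectiveDimensionLT
      (ModuleCat.of R (R ⧸ Ideal.span (Set.range fun i => dl Ψ i ^ p ^ e))) 3 := by
  have h1 : (dl (Ψ.map (iterateFrobenius R p e))) = fun i => dl Ψ i ^ p ^ e :=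
    funext (dl_frob Ψ p e)
  have h2 : Cop (dl (Ψ.map (iterateFrobenius R p e))) := by
    rw [h1]
    exact cop_pow _ hf _
  have h3 : ∃ i, dl (Ψ.map (iterateFrobenius R p e)) i ≠ 0 := by
    obtain ⟨i, hi⟩ := h0
    refine ⟨i, ?_⟩
    rw [dl_frob]
    exact pow_ne_zero _ hi
  rw [← h1]
  exact pd_le _ (mulVec_injective _ h3) (ker_le_range' _ h2 h3)

omit [IsDomain R] [UniqueFactorizationMonoid R] in
theorem exists_pow_le (f : Fin (t + 1) → R) (e : ℕ) :
    ∃ k, Ideal.span (Set.range f) ^ k ≤ Ideal.span (Set.range fun i => f i ^ p ^ e) := by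
  classical
  refine Ideal.exists_pow_le_of_le_radical_of_fg ?_ ⟨Finset.univ.image f, by simp⟩
  rw [Ideal.span_le]
  rintro _ ⟨i, rfl⟩
  exact ⟨p ^ e, Ideal.subset_span ⟨i, rfl⟩⟩

include p in
theorem localCohomology_minors (hf : Cop (dl Ψ)) (h0 : ∃ i, dl Ψ i ≠ 0) (i : ℕ) (hi : 3 ≤ i)
    (M : ModuleCat.{u} R) (x : (localCohomology (Ideal.span (Set.range (dl Ψ))) i).obj M) :
    x = 0 := by
  refine localCohomology_eq_zero _ 3 (fun n => ?_) i hi M x
  refine ⟨Ideal.span (Set.range fun i => dl Ψ i ^ p ^ n), ?_, exists_pow_le p _ n,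
    pd_frob Ψ p hf h0 n⟩
  rw [Ideal.span_le]
  rintro _ ⟨i, rfl⟩
  have h1 : dl Ψ i ∈ Ideal.span (Set.range (dl Ψ)) := Ideal.subset_span ⟨i, rfl⟩
  have h2 : n ≤ p ^ n := (Nat.lt_pow_self (Fact.out : p.Prime).one_lt).le
  exact Ideal.pow_le_pow_right h2 (Ideal.pow_mem_pow h1 _)

include p in
/-- exactness of the extended Čech complex in degrees at least three -/
theorem cech_exact [IsNoetherianRing R] (hf : Cop (dl Ψ)) (h0 : ∃ i, dl Ψ i ≠ 0) (N : Type u)
    [AddCommGroup N] [Module R N] (n : ℕ) (hn : 2 ≤ n)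
    (x : Pi1C.CechAll.EC (dl Ψ) N (n + 1)) (hx : Pi1C.CechAll.d (dl Ψ) N (n + 1) x = 0) :
    ∃ y, Pi1C.CechAll.d (dl Ψ) N n y = x := by
  have h1 : IsZero ((localCohomology (Ideal.span (Set.range (dl Ψ))) (n + 1)).obj
      (ModuleCat.of R N)) := by
    have : Subsingleton ((localCohomology (Ideal.span (Set.range (dl Ψ))) (n + 1)).obj
      (ModuleCat.of R N)) := ⟨fun a b => by
        rw [localCohomology_minors Ψ p hf h0 (n + 1) (by omega) _ a,
          localCohomology_minors Ψ p hf h0 (n + 1) (by omega) _ b]⟩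
    exact ModuleCat.isZero_of_subsingleton _
  obtain ⟨e⟩ := Pi1C.CechCmp.nonempty_iso (dl Ψ) (Ideal.span (Set.range (dl Ψ))) rfl (n + 1)
  have h2 : IsZero ((Pi1C.CechCmp.ecObj (dl Ψ) (ModuleCat.of R N)).homology (n + 1)) :=
    h1.of_iso (e.app (ModuleCat.of R N))
  exact (Pi1C.CechCmp.isZero_homology_succ_iff (dl Ψ) (ModuleCat.of R N) n).1 h2 x hx

end Frob

section Generic

variable (k : Type u) [Field k] (t : ℕ)

/-- the generic matrix -/
noncomputable abbrev gen : Matrix (Fin (t + 1)) (Fin t) (MvPolynomial (Fin (t + 1) × Fin t) k) :=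
  Matrix.of fun i j => MvPolynomial.X (i, j)

theorem dl_gen_ne_zero (i : Fin (t + 1)) : dl (gen k t) i ≠ 0 := by
  classical
  intro h
  -- evaluate at the matrix whose rows `i.succAbove` are the identity
  let v : Fin (t + 1) × Fin t → k := fun q => if i.succAbove q.2 = q.1 then 1 else 0
  have h1 := congrArg (MvPolynomial.eval v) h
  rw [← dl_map, map_zero, dl] at h1
  have h2 : ((gen k t).map (MvPolynomial.eval v)).submatrix i.succAbove id = 1 := by
    ext a b
    simp [v, Matrix.one_apply, eq_comm]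
  rw [h2, Matrix.det_one, mul_one] at h1
  exact pow_ne_zero _ (neg_ne_zero.2 one_ne_zero) h1

theorem degreeOf_dl (i : Fin (t + 1)) (j : Fin t) :
    MvPolynomial.degreeOf (i, j) (dl (gen k t) i) = 0 := by
  classical
  let φ : Fin t × Fin t → Fin (t + 1) × Fin t := fun q => (i.succAbove q.1, q.2)
  let G : Matrix (Fin t) (Fin t) (MvPolynomial (Fin t × Fin t) k) :=
    Matrix.of fun a b => MvPolynomial.X (a, b)
  have h1 : dl (gen k t) i = MvPolynomial.rename φ ((-1) ^ (i : ℕ) * G.det) := by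
    rw [dl, map_mul, map_pow, map_neg, map_one]
    congr 1
    change _ = (MvPolynomial.rename φ).toRingHom G.det
    rw [RingHom.map_det]
    congr 1
    ext a b
    simp [G, φ]
  rw [h1]
  by_contra hne
  have h2 : (i, j) ∈ (MvPolynomial.rename φ ((-1) ^ (i : ℕ) * G.det)).vars := by
    rw [MvPolynomial.vars_def, Multiset.mem_toFinset, ← Multiset.one_le_count_iff_mem]
    rw [MvPolynomial.degreeOf_def] at hne
    omega
  have h3 := MvPolynomial.vars_rename φ _ h2
  obtain ⟨q, -, hq⟩ := Finset.mem_image.1 h3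
  exact Fin.succAbove_ne i q.1 (congrArg Prod.fst hq)

theorem cop_gen : Cop (dl (gen k t)) := by
  classical
  intro π hπ
  by_contra hcon
  push Not at hcon
  have h1 : ∀ q : Fin (t + 1) × Fin t, MvPolynomial.degreeOf q π = 0 := by
    rintro ⟨i, j⟩
    obtain ⟨c, hc⟩ := hcon i
    have hc0 : c ≠ 0 := by
      rintro rfl
      exact dl_gen_ne_zero k t i (by rw [hc, mul_zero])
    have h2 := MvPolynomial.degreeOf_mul_eq (n := (i, j)) hπ.ne_zero hc0
    rw [← hc, degreeOf_dl] at h2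
    omega
  have h2 : π.vars = ∅ := by
    rw [Finset.eq_empty_iff_forall_notMem]
    intro q hq
    rw [MvPolynomial.vars_def, Multiset.mem_toFinset, ← Multiset.one_le_count_iff_mem,
      ← MvPolynomial.degreeOf_def, h1 q] at hq
    omega
  obtain ⟨a, rfl⟩ : ∃ a, π = MvPolynomial.C a := ⟨_, MvPolynomial.vars_eq_empty_iff_eq_C.1 h2⟩
  have ha : a ≠ 0 := by
    rintro rfl
    exact hπ.ne_zero (map_zero _)
  exact hπ.not_isUnit ((Ne.isUnit ha).map MvPolynomial.C)

/-- **CD2-i.** Over a field of characteristic `p` the extended Čech complex of every module over the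
polynomial ring for the maximal minors of the generic matrix is exact in degrees at least three. -/
theorem cech_exact_gen (p : ℕ) [Fact p.Prime] [CharP k p] (N : Type u) [AddCommGroup N]
    [Module (MvPolynomial (Fin (t + 1) × Fin t) k) N] (n : ℕ) (hn : 2 ≤ n)
    (x : Pi1C.CechAll.EC (dl (gen k t)) N (n + 1))
    (hx : Pi1C.CechAll.d (dl (gen k t)) N (n + 1) x = 0) :
    ∃ y, Pi1C.CechAll.d (dl (gen k t)) N n y = x :=
  cech_exact _ p (cop_gen k t) ⟨0, dl_gen_ne_zero k t 0⟩ N n hn x hx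

end Generic

end Groth.Agent.ResProp.EF.K171.CechMinors

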