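import Groth.Agent.Pi1C.CechAll

/-!
# A Čech – complex double complex argument

`C0 → C1 → C2 → C3` a complex of `S`-modules, `g : ι → S` finite.  If the extended Čech complexes of
`C0, C1, C2` are exact, `H^1, H^2` are `g i`-power torsion for each `i`, and the extended Čech complex of
`ker (C0 → C1)` is exact in degree `3`, then `H^2 = 0`.  Node CD2 of S16912 (`1.4 (A)`).
-/

set_option autoImplicit false
universe u v w

open Groth.Agent.FormalA.LocSub Groth.Agent.Pi1C.CechAll

namespace Groth.Agent.ResProp.EF.K171.DblCech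

section Torsion

variable {S : Type u} [CommRing S] {ι : Type v} (g : ι → S) (W : Type w) [AddCommGroup W] [Module S W]

/-- localization at one element as a module over `S` -/
abbrev Wk (k : ι) : Type _ := LocalizedModule (Submonoid.powers (g k)) W

theorem bijective_Wk (k : ι) : Function.Bijective fun x : Wk g W k => g k • x := by
  have h := IsLocalizedModule.map_units (S := Submonoid.powers (g k))
    (LocalizedModule.mkLinearMap (Submonoid.powers (g k)) W) ⟨g k, Submonoid.mem_powers _⟩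
  exact (Module.End.isUnit_iff _).1 h

variable [Finite ι]

theorem exists_lift (k : ι) (n : ℕ) (y : EC g (Wk g W k) n) : ∃ (N : ℕ) (z : EC g W n),
    emap g (LocalizedModule.mkLinearMap (Submonoid.powers (g k)) W) n z = g k ^ N • y := by
  classical
  have := Fintype.ofFinite ι
  have h1 : ∀ s : Fin n → ι, ∃ (a : ℕ) (z : LocalizedModule (P g s) W),
      lmap _ (LocalizedModule.mkLinearMap (Submonoid.powers (g k)) W) z = g k ^ a • y s := by
    intro s
    obtain ⟨w', t, hw⟩ := exists_eq_mk (y s)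
    obtain ⟨w, ⟨_, a, rfl⟩, rfl⟩ := exists_eq_mk w'
    refine ⟨a, LocalizedModule.mk w t, ?_⟩
    rw [hw, lmap_mk, LocalizedModule.smul'_mk]
    congr 1
    exact (mk_smul_self (S := Submonoid.powers (g k)) w ⟨_, a, rfl⟩).symm
  choose a z hz using h1
  refine ⟨∑ s, a s, fun s => g k ^ ((∑ s, a s) - a s) • z s, ?_⟩
  funext s
  rw [emap_apply, map_smul, hz, smul_smul, ← pow_add, Pi.smul_apply]
  congr 2
  have : a s ≤ ∑ s, a s := Finset.single_le_sum (f := a) (fun _ _ => Nat.zero_le _) (Finset.mem_univ s)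
  omega

theorem exists_kill (k : ι) (n : ℕ) (z : EC g W n)
    (hz : emap g (LocalizedModule.mkLinearMap (Submonoid.powers (g k)) W) n z = 0) :
    ∃ N : ℕ, g k ^ N • z = 0 := by
  classical
  have := Fintype.ofFinite ι
  have h1 : ∀ s : Fin n → ι, ∃ a : ℕ, g k ^ a • z s = 0 := by
    intro s
    obtain ⟨w, t, hw⟩ := exists_eq_mk (z s)
    have h2 := congrFun hz s
    rw [emap_apply, hw, lmap_mk] at h2
    obtain ⟨u, hu, h3⟩ := (mk_eq_zero_iff _ _).1 h2
    rw [← map_smul] at h3
    obtain ⟨_, ⟨a, rfl⟩, h4⟩ := (mkLinearMap_eq_zero_iff _).1 h3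
    refine ⟨a, ?_⟩
    rw [hw, LocalizedModule.smul'_mk, mk_eq_zero_iff]
    exact ⟨u, hu, by rw [smul_comm]; exact h4⟩
  choose a ha using h1
  refine ⟨∑ s, a s, ?_⟩
  funext s
  have : a s ≤ ∑ s, a s := Finset.single_le_sum (f := a) (fun _ _ => Nat.zero_le _) (Finset.mem_univ s)
  obtain ⟨b, hb⟩ := Nat.exists_eq_add_of_le this
  rw [Pi.smul_apply, hb, add_comm, pow_add, mul_smul, ha, smul_zero]
  rfl

/-- Čech classes of positive degree are killed by powers of each `g k`. -/
theorem torsion (k : ι) (n : ℕ) (x : EC g W (n + 1)) (hx : d g W (n + 1) x = 0) :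
    ∃ (N : ℕ) (y : EC g W n), d g W n y = g k ^ N • x := by
  obtain ⟨y', hy'⟩ := exact_of_bijective g (N := Wk g W k) k (bijective_Wk g W k) n
    (emap g (LocalizedModule.mkLinearMap (Submonoid.powers (g k)) W) (n + 1) x) (by
      rw [← emap_d, hx, map_zero])
  obtain ⟨N, y, hy⟩ := exists_lift g W k n y'
  obtain ⟨N', hN'⟩ := exists_kill g W k (n + 1) (g k ^ N • x - d g W n y) (by
    rw [map_sub, emap_d, hy, map_smul, map_smul, hy', sub_self])
  refine ⟨N' + N, g k ^ N' • y, ?_⟩
  rw [smul_sub, sub_eq_zero] at hN'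
  rw [map_smul, ← hN', smul_smul, pow_add]

/-- the extended Čech complex is exact -/
structure Exc : Prop where
  zero : ∀ x : EC g W 0, d g W 0 x = 0 → x = 0
  succ : ∀ (n : ℕ) (x : EC g W (n + 1)), d g W (n + 1) x = 0 → ∃ y, d g W n y = x

variable {g W}

/-- Exactness from operators showing that the `g i ^ n` "generate the unit ideal". -/
theorem Exc.of_operators [Fintype ι]
    (h : ∀ n : ℕ, ∃ a : ι → (W →ₗ[S] W), ∀ w, ∑ i, a i (g i ^ n • w) = w) : Exc g W where
  zero x hx := by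
    obtain ⟨x, rfl⟩ := (unit₀_bijective g).2 x
    have h1 := (d_unit₀_eq_zero_iff g x).1 hx
    choose m hm using h1
    obtain ⟨a, ha⟩ := h (∑ i, m i)
    have h2 : x = 0 := by
      rw [← ha x]
      refine Finset.sum_eq_zero fun i _ => ?_
      have : m i ≤ ∑ i, m i :=
        Finset.single_le_sum (f := m) (fun _ _ => Nat.zero_le _) (Finset.mem_univ i)
      obtain ⟨b, hb⟩ := Nat.exists_eq_add_of_le this
      rw [hb, add_comm, pow_add, mul_smul, hm, smul_zero, map_zero]
    rw [h2, map_zero]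
  succ n x hx := by
    have h1 : ∀ k, ∃ (N : ℕ) (y : EC g W n), d g W n y = g k ^ N • x := fun k => torsion g W k n x hx
    choose N y hy using h1
    obtain ⟨a, ha⟩ := h (∑ i, N i)
    refine ⟨∑ i, emap g (a i) n (g i ^ ((∑ i, N i) - N i) • y i), ?_⟩
    rw [map_sum]
    have h2 : ∀ i, d g W n (emap g (a i) n (g i ^ ((∑ i, N i) - N i) • y i)) =
        emap g (a i) (n + 1) (g i ^ (∑ i, N i) • x) := by
      intro i
      rw [← emap_d, map_smul, hy, smul_smul, ← pow_add]
      congr 3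
      have : N i ≤ ∑ i, N i :=
        Finset.single_le_sum (f := N) (fun _ _ => Nat.zero_le _) (Finset.mem_univ i)
      omega
    rw [Finset.sum_congr rfl fun i _ => h2 i]
    funext s
    obtain ⟨w, t, hw⟩ := exists_eq_mk (x s)
    rw [Finset.sum_apply, hw]
    have h3 : ∀ i, emap g (a i) (n + 1) (g i ^ (∑ i, N i) • x) s =
        LocalizedModule.mk (a i (g i ^ (∑ i, N i) • w)) t := by
      intro i
      rw [emap_apply, Pi.smul_apply, hw, LocalizedModule.smul'_mk, lmap_mk]
    rw [Finset.sum_congr rfl fun i _ => h3 i]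
    have h4 : ∀ (F : Finset ι) (b : ι → W), ∑ i ∈ F, (LocalizedModule.mk (b i) t :
        LocalizedModule (P g s) W) = LocalizedModule.mk (∑ i ∈ F, b i) t := by
      intro F b
      classical
      induction F using Finset.induction_on with
      | empty => rw [Finset.sum_empty, Finset.sum_empty, LocalizedModule.zero_mk]
      | insert i F hi ih =>
        rw [Finset.sum_insert hi, Finset.sum_insert hi, ih]
        rw [LocalizedModule.mk_add_mk, ← smul_add, LocalizedModule.mk_cancel_common_left]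
    rw [h4, ha]

/-- Exactness for modules over an algebra in which the `g i` generate the unit ideal. -/
theorem Exc.of_span [Fintype ι] {A : Type*} [CommRing A] [Algebra S A] [Module A W]
    [IsScalarTower S A W] (h : Ideal.span (Set.range fun i => algebraMap S A (g i)) = ⊤) : Exc g W := by
  refine Exc.of_operators fun n => ?_
  have h1 : (1 : A) ∈ Ideal.span (Set.range fun i => algebraMap S A (g i) ^ n) := by
    have h2 := Ideal.span_pow_eq_top _ h n
    rw [← Set.range_comp] at h2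
    rw [show (fun i => algebraMap S A (g i) ^ n) = (fun x => x ^ n) ∘ fun i => algebraMap S A (g i)
      from rfl, h2]
    trivial
  rw [Ideal.span, Submodule.mem_span_range_iff_exists_fun] at h1
  obtain ⟨c, hc⟩ := h1
  refine ⟨fun i => (Algebra.lsmul S S W (c i) : W →ₗ[S] W), fun w => ?_⟩
  have h3 : ∀ i, (Algebra.lsmul S S W (c i)) (g i ^ n • w) = (c i • algebraMap S A (g i) ^ n) • w := by
    intro i
    rw [Algebra.lsmul_coe, smul_assoc, ← map_pow, algebraMap_smul]
  rw [Finset.sum_congr rfl fun i _ => h3 i, ← Finset.sum_smul, hc, one_smul]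

end Torsion

section Dbl

variable {S : Type u} [CommRing S] {ι : Type v} (g : ι → S)
  {C0 C1 C2 C3 : Type*} [AddCommGroup C0] [Module S C0] [AddCommGroup C1] [Module S C1]
  [AddCommGroup C2] [Module S C2] [AddCommGroup C3] [Module S C3]

/-- Exactness after localization from torsion of the cohomology. -/
theorem emap_exact_of_torsion (d0 : C0 →ₗ[S] C1) (d1 : C1 →ₗ[S] C2)
    (h : ∀ (i : ι) (z : C1), d1 z = 0 → ∃ (n : ℕ) (y : C0), d0 y = g i ^ n • z) (n : ℕ)
    (x : EC g C1 (n + 1)) (hx : emap g d1 (n + 1) x = 0) : ∃ y, emap g d0 (n + 1) y = x := by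
  have h1 : ∀ s : Fin (n + 1) → ι, ∃ y : LocalizedModule (P g s) C0, lmap _ d0 y = x s := by
    intro s
    obtain ⟨z, t, hz⟩ := exists_eq_mk (x s)
    have h2 := congrFun hx s
    rw [emap_apply, hz, lmap_mk] at h2
    obtain ⟨u, hu, h3⟩ := (mk_eq_zero_iff _ _).1 h2
    rw [← map_smul] at h3
    obtain ⟨m, y, hy⟩ := h (s 0) _ h3
    have hm : g (s 0) ^ m * u ∈ P g s := Submonoid.mul_mem _ (Submonoid.pow_mem _ (mem_P g s 0) m) hu
    refine ⟨LocalizedModule.mk y (⟨_, hm⟩ * t), ?_⟩
    rw [lmap_mk, hz, hy, smul_smul]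
    exact LocalizedModule.mk_cancel_common_left ⟨_, hm⟩ t z
  choose y hy using h1
  exact ⟨y, funext hy⟩

/-- **The double complex argument.** -/
theorem h2_eq_zero [Finite ι] (d0 : C0 →ₗ[S] C1) (d1 : C1 →ₗ[S] C2) (d2 : C2 →ₗ[S] C3)
    (h01 : ∀ x, d1 (d0 x) = 0) 
    (e0 : Exc g C0) (e1 : Exc g C1) (e2 : Exc g C2)
    (t1 : ∀ (i : ι) (z : C1), d1 z = 0 → ∃ (n : ℕ) (y : C0), d0 y = g i ^ n • z)
    (t2 : ∀ (i : ι) (z : C2), d2 z = 0 → ∃ (n : ℕ) (y : C1), d1 y = g i ^ n • z)
    (hN : ∀ x : EC g (LinearMap.ker d0) 3, d g (LinearMap.ker d0) 3 x = 0 →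
      ∃ y, d g (LinearMap.ker d0) 2 y = x)
    (z : C2) (hz : d2 z = 0) : ∃ u, d1 u = z := by
  have hc01 : ∀ n (x : EC g C0 n), emap g d1 n (emap g d0 n x) = 0 := by
    intro n x
    rw [← LinearMap.comp_apply, ← emap_comp]
    have : d1 ∘ₗ d0 = 0 := LinearMap.ext h01
    rw [this]
    funext s
    obtain ⟨w, t, hw⟩ := exists_eq_mk (x s)
    rw [emap_apply, hw, lmap_mk]
    exact LocalizedModule.zero_mk t
  -- step 1
  obtain ⟨y1, hy1⟩ := emap_exact_of_torsion g d1 d2 t2 0 (d g C2 0 (unit₀ g z)) (by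
    rw [emap_d, unit₀_natural, hz, map_zero, map_zero])
  -- step 2
  obtain ⟨x2, hx2⟩ := emap_exact_of_torsion g d0 d1 t1 1 (d g C1 1 y1) (by
    rw [emap_d, hy1, d_d])
  -- step 3
  obtain ⟨n3, hn3⟩ := (emap_exact g (LinearMap.ker d0).subtype d0 (fun y => by simp) 3
    (d g C0 2 x2)).1 (by rw [emap_d, hx2, d_d])
  have hn3' : d g (LinearMap.ker d0) 3 n3 = 0 := by
    apply emap_injective g (LinearMap.ker d0).subtype Subtype.val_injective 4
    rw [emap_d, hn3, d_d, map_zero]
  obtain ⟨w2, hw2⟩ := hN n3 hn3'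
  -- step 4
  obtain ⟨v1, hv1⟩ := e0.succ 1 (x2 - emap g (LinearMap.ker d0).subtype 2 w2) (by
    rw [map_sub, ← emap_d, hw2, hn3, sub_self])
  -- step 5
  have h5 : d g C1 1 (y1 - emap g d0 1 v1) = 0 := by
    rw [map_sub, ← emap_d, hv1, map_sub, hx2]
    have : emap g d0 2 (emap g (LinearMap.ker d0).subtype 2 w2) = 0 :=
      (emap_exact g (LinearMap.ker d0).subtype d0 (fun y => by simp) 2 _).2 ⟨w2, rfl⟩
    rw [this, sub_zero, sub_self]
  obtain ⟨u', hu'⟩ := e1.succ 0 (y1 - emap g d0 1 v1) h5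
  obtain ⟨u, rfl⟩ := (unit₀_bijective g).2 u'
  -- step 6
  refine ⟨u, ?_⟩
  apply (unit₀_bijective g).1
  rw [← unit₀_natural]
  have h6 : emap g d1 0 (unit₀ g u) - unit₀ g z = 0 := by
    apply e2.zero
    rw [map_sub, ← emap_d, hu', map_sub, hy1, hc01, sub_zero, sub_self]
  exact sub_eq_zero.1 h6

end Dbl

end Groth.Agent.ResProp.EF.K171.DblCech
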