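import Groth.Agent.ResProp.EF.K711.Stab
import Groth.Agent.ResProp.EF.K82.Integral

/-!
# `TorsStmt` (helper711) from helper82's total integral
-/

set_option autoImplicit false

universe u

open TensorProduct

noncomputable section

namespace Groth.Agent.ResProp.EF.K171

open Grp K711

theorem torsStmt : TorsStmt.{u} := by
  intro k _ H B _ _ cB ρ hρ f hf B' _ _ _ _ _ ρ' hρ' j hj M
  have key := fun (n : ℕ) (c : (Hoch.cochain k H.O (M.V ⊗[k] B) (n + 1) : Type u)) hc =>
    K82.torsion M.co cB (by rw [hρ, map_one]) (fun x y => by rw [hρ, hρ, hρ, map_mul]) f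
      (by rw [hρ, hf]) B' j.toLinearMap (map_one j) (by
        intro ρ'' h'' x
        have e : ρ'' = ρ' := by
          apply IsLocalization.algHom_ext (Submonoid.powers f)
          apply AlgHom.ext
          intro b
          change ρ'' (algebraMap B B' b) = ρ' (algebraMap B B' b)
          rw [h'', hρ', hρ]
          rfl
        rw [e]
        exact hj x) n c hc
  exact ⟨fun x hx => key 0 x hx, fun x hx => key 1 x hx⟩

end Groth.Agent.ResProp.EF.K171
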